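import Groth.Agent.Lib.IntMult4.Scheme
import Groth.Agent.Lib.CycBasic.DimFun
import Groth.Agent.Lib.CycDiv.Stalk
import Groth.Agent.Lib.ArSurf29.Horizontal
import Groth.Agent.Lib.RelReg.FibreLift
import Groth.Agent.Lib.CInt17.Near
import Groth.Agent.Lib.MorQ9.Normal
import Groth.Agent.Lib.Euler.AmpleComponents
import Groth.Prelude.Def_IntMult
import Groth.Prelude.Def_Cyc

/-! Intersection products at components of multiplicity one. -/

set_option autoImplicit false
set_option backward.isDefEq.respectTransparency false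

universe u

open CategoryTheory CategoryTheory.Limits AlgebraicGeometry IsLocalRing TopologicalSpace

namespace GrothLib.MultOne4

open GrothLib.CycDiv (primeOf)

variable {X Y : Scheme.{u}}

theorem stalkIdeal_le_primeOf (I : X.IdealSheafData) {x ξ : X} (h : ξ ⤳ x) (hξ : ξ ∈ I.support) :
    IntMult.stalkIdeal I x ≤ primeOf h := by
  intro a ha
  rw [GrothLib.CycDiv.mem_primeOf_iff]
  have hne : GrothLib.CartierDescent.stalkIdeal I ξ ≠ ⊤ := fun e =>
    (GrothLib.CartierDescent.stalkIdeal_eq_top_iff I ξ).1 e hξ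
  refine le_maximalIdeal hne ?_
  rw [← GrothLib.CartierDescent.stalkIdeal_map_specializes I h]
  rw [GrothLib.IntMult3.stalkIdeal_eq] at ha
  exact Ideal.mem_map_of_mem _ ha

theorem fromSpecStalk_primeOf {x ξ : X} (h : ξ ⤳ x) :
    X.fromSpecStalk x ⟨primeOf h, inferInstance⟩ = ξ := by
  conv_rhs => rw [← GrothLib.CycBasic.fromSpecStalk_comap_closedPoint h]
  congr 1
  exact PrimeSpectrum.ext (GrothLib.CycBasic.ker_specMap h)

/-- The stalk ideal of the reduced closure of a generization is the prime of that generization. -/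
theorem stalkIdeal_ptIdeal {x ξ : X} (h : ξ ⤳ x) : IntMult.stalkIdeal (IntMult.ptIdeal ξ) x = primeOf h := by
  have hsupp : ((IntMult.ptIdeal ξ).support : Set X) = closure {ξ} :=
    Scheme.IdealSheafData.coe_support_vanishingIdeal _
  have hξ : ξ ∈ (IntMult.ptIdeal ξ).support := by
    show ξ ∈ ((IntMult.ptIdeal ξ).support : Set X)
    rw [hsupp]; exact subset_closure rfl
  refine le_antisymm (stalkIdeal_le_primeOf _ h hξ) ?_
  haveI : IsIntegral (IntMult.ptIdeal ξ).subscheme :=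
    GrothLib.Euler.isIntegral_vanishingIdeal ⟨closure {ξ}, isClosed_closure⟩ isIrreducible_singleton.closure
  have hx : x ∈ Set.range (IntMult.ptIdeal ξ).subschemeι := by
    rw [Scheme.IdealSheafData.range_subschemeι, hsupp]
    exact h.mem_closure
  obtain ⟨d, hd⟩ := hx
  subst hd
  haveI hp : (IntMult.stalkIdeal (IntMult.ptIdeal ξ) ((IntMult.ptIdeal ξ).subschemeι d)).IsPrime := by
    have := GrothLib.ArSurf29.ker_stalkMap_eq_stalkIdeal (IntMult.ptIdeal ξ).subschemeι d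
    rw [Scheme.IdealSheafData.ker_subschemeι] at this
    rw [GrothLib.IntMult3.stalkIdeal_eq, ← this]
    exact RingHom.ker_isPrime _
  have hmem := GrothLib.IntMult3.mem_support_of_le (IntMult.ptIdeal ξ) ⟨_, hp⟩ le_rfl
  have hsp : ξ ⤳ X.fromSpecStalk _ ⟨_, hp⟩ := by
    rw [specializes_iff_mem_closure, ← hsupp]
    exact hmem
  exact GrothLib.CycBasic.le_iff_specializes.2 ((specializes_of_eq (fromSpecStalk_primeOf h)).trans hsp)

variable (ιY : Y ⟶ X) [IsClosedImmersion ιY]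

theorem mem_range_of_subschemeFun {δ : X → ℤ} {k : ℤ} {x : X} (h : Cyc.subschemeFun δ k ιY x ≠ 0) :
    δ x = k ∧ x ∈ Set.range ιY := by
  unfold Cyc.subschemeFun at h
  split_ifs at h with hx
  · refine ⟨hx, ?_⟩
    by_contra hn
    apply h
    rw [show {z : Y | ιY z = x} = ∅ from Set.eq_empty_iff_forall_notMem.2 fun z hz => hn ⟨z, hz⟩,
      finsum_mem_empty]
  · exact absurd rfl h

theorem subschemeFun_apply {δ : X → ℤ} {k : ℤ} (y : Y) (hy : δ (ιY y) = k) :
    Cyc.subschemeFun δ k ιY (ιY y) =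
      ((Module.length (X.presheaf.stalk (ιY y))
        (X.presheaf.stalk (ιY y) ⧸ RingHom.ker (ιY.stalkMap y).hom)).toNat : ℤ) := by
  unfold Cyc.subschemeFun
  rw [if_pos hy, show {w : Y | ιY w = ιY y} = {y} from Set.ext fun w =>
    ⟨fun e => ιY.isClosedEmbedding.injective e, fun e => congrArg ιY e⟩, finsum_mem_singleton]
  congr 2
  algebraize [(ιY.stalkMap y).hom]
  rw [← Module.length_eq_of_surjective (S := X.presheaf.stalk (ιY y)) (R := Y.presheaf.stalk y)
    (M := Y.presheaf.stalk y) (ιY.stalkMap_surjective y)]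
  exact (LinearEquiv.length_eq ((Algebra.linearMap (X.presheaf.stalk (ιY y)) (Y.presheaf.stalk y)).quotKerEquivOfSurjective
    (ιY.stalkMap_surjective y))).symm

theorem coe_support_ker : (ιY.ker.support : Set X) = Set.range ιY := by
  rw [Scheme.Hom.support_ker]
  exact ιY.isClosedEmbedding.isClosed_range.closure_eq

theorem ker_eq (y : Y) : RingHom.ker (ιY.stalkMap y).hom = IntMult.stalkIdeal ιY.ker (ιY y) := by
  rw [GrothLib.IntMult3.stalkIdeal_eq]
  exact GrothLib.ArSurf29.ker_stalkMap_eq_stalkIdeal ιY y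

variable {δ : X → ℤ} (hδ : Cyc.IsDimFun X δ)
include hδ

theorem dim_quotient_primeOf {x ξ : X} (h : ξ ⤳ x) :
    ringKrullDim (↑(X.presheaf.stalk x) ⧸ primeOf h) = ((δ ξ - δ x).toNat : WithBot ℕ∞) :=
  GrothLib.CycBasic.ringKrullDim_locQuot hδ x ξ h

theorem dim_quotient_le {k : ℤ} (hk : ∀ y : Y, δ (ιY y) ≤ k) (x : X) :
    ringKrullDim (↑(X.presheaf.stalk x) ⧸ IntMult.stalkIdeal ιY.ker x) ≤ ((k - δ x).toNat : WithBot ℕ∞) := by
  rw [ringKrullDim_quotient, Order.krullDim]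
  refine iSup_le fun l => ?_
  let Q : PrimeSpectrum (X.presheaf.stalk x) := l.head.1
  have hQ : IntMult.stalkIdeal ιY.ker x ≤ Q.asIdeal := fun a ha => l.head.2 ha
  have hmem : X.fromSpecStalk x Q ∈ (ιY.ker.support : Set X) := GrothLib.IntMult3.mem_support_of_le _ Q hQ
  rw [coe_support_ker] at hmem
  obtain ⟨y, hy⟩ := hmem
  have h1 : δ (X.fromSpecStalk x Q) ≤ k := hy ▸ hk y
  have h2 := GrothLib.CycBasic.delta_le hδ (GrothLib.CycBasic.specializes_fromSpecStalk Q)
  have h3 := GrothLib.CycBasic.coheight_eq hδ x (δ (X.fromSpecStalk x Q) - δ x).toNat Q (by omega)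
  have h4 : (l.length : ℕ∞) ≤ ((δ (X.fromSpecStalk x Q) - δ x).toNat : ℕ∞) := by
    rw [← h3]
    exact Order.length_le_coheight (p := l.map Subtype.val (fun a b h => h)) le_rfl
  have h5 : l.length ≤ (δ (X.fromSpecStalk x Q) - δ x).toNat := by exact_mod_cast h4
  exact_mod_cast (show l.length ≤ (k - δ x).toNat by omega)

/-- What happens on one of the two subschemes. -/
theorem component [IsLocallyNoetherian X] {r : ℤ} (hY : ∀ y : Y, δ (ιY y) ≤ r) {τ ξ : X}
    (hξ : Cyc.subschemeFun δ r ιY ξ ≠ 0) (hsp : ξ ⤳ τ)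
    (hreg : IsRegularLocalRing (↑(X.presheaf.stalk τ) ⧸ IntMult.stalkIdeal ιY.ker τ)) :
    IntMult.stalkIdeal ιY.ker τ = primeOf hsp ∧ Cyc.subschemeFun δ r ιY ξ = 1 ∧
      ∀ ξ' : X, ξ' ⤳ τ → Cyc.subschemeFun δ r ιY ξ' ≠ 0 → ξ' = ξ := by
  classical
  set J := IntMult.stalkIdeal ιY.ker τ
  haveI hJp : J.IsPrime :=
    (Ideal.Quotient.isDomain_iff_prime J).1 (GrothLib.CMFree.isDomain_of_isRegularLocalRing _)
  let PJ : PrimeSpectrum (X.presheaf.stalk τ) := ⟨J, hJp⟩
  have key : ∀ {ξ' : X} (h' : ξ' ⤳ τ), Cyc.subschemeFun δ r ιY ξ' ≠ 0 → J = primeOf h' := by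
    intro ξ' h' hne
    obtain ⟨hd, hr⟩ := mem_range_of_subschemeFun ιY hne
    rw [← coe_support_ker ιY] at hr
    have hle : J ≤ primeOf h' := stalkIdeal_le_primeOf _ h' hr
    by_contra hJ
    have hlt : PJ < ⟨primeOf h', inferInstance⟩ := lt_of_le_of_ne hle fun e => hJ (congrArg PrimeSpectrum.asIdeal e)
    have h1 : Order.coheight (⟨primeOf h', inferInstance⟩ : PrimeSpectrum (X.presheaf.stalk τ)) + 1 ≤
        Order.coheight PJ := Order.coheight_add_one_le hlt
    have h2 := dim_quotient_primeOf hδ h'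
    rw [GrothLib.AffDom.ringKrullDim_quotient_eq_coheight ⟨primeOf h', inferInstance⟩] at h2
    have h3 := dim_quotient_le ιY hδ hY τ
    rw [show ringKrullDim (↑(X.presheaf.stalk τ) ⧸ J) = _ from
      GrothLib.AffDom.ringKrullDim_quotient_eq_coheight PJ] at h3
    have h2' : Order.coheight (⟨primeOf h', inferInstance⟩ : PrimeSpectrum (X.presheaf.stalk τ)) =
        ((r - δ τ).toNat : ℕ∞) := by rw [hd] at h2; exact_mod_cast h2
    have h3' : Order.coheight PJ ≤ ((r - δ τ).toNat : ℕ∞) := by exact_mod_cast h3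
    rw [h2'] at h1
    have := h1.trans h3'
    norm_cast at this
    omega
  refine ⟨key hsp hξ, ?_, fun ξ' h' hne => ?_⟩
  · obtain ⟨hd, y, rfl⟩ := mem_range_of_subschemeFun ιY hξ
    rw [subschemeFun_apply ιY y hd, ker_eq, GrothLib.IntMult3.stalkIdeal_eq,
      ← GrothLib.CartierDescent.stalkIdeal_map_specializes ιY.ker hsp, ← GrothLib.IntMult3.stalkIdeal_eq,
      show IntMult.stalkIdeal ιY.ker τ = primeOf hsp from key hsp hξ]
    letI := (X.presheaf.stalkSpecializes hsp).hom.toAlgebra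
    haveI := GrothLib.CycDiv.isLocalization_stalkSpecializes hsp
    have hm : (primeOf hsp).map (X.presheaf.stalkSpecializes hsp).hom =
        maximalIdeal (X.presheaf.stalk (ιY y)) :=
      IsLocalization.AtPrime.map_eq_maximalIdeal (primeOf hsp) (X.presheaf.stalk (ιY y))
    rw [hm]
    haveI : IsSimpleModule (X.presheaf.stalk (ιY y))
        (↑(X.presheaf.stalk (ιY y)) ⧸ maximalIdeal (X.presheaf.stalk (ιY y))) :=
      isSimpleModule_iff_isCoatom.2 (maximalIdeal.isMaximal _).out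
    rw [Module.length_eq_one]
    rfl
  · have e : primeOf h' = primeOf hsp := (key h' hne).symm.trans (key hsp hξ)
    rw [← fromSpecStalk_primeOf h', ← fromSpecStalk_primeOf hsp]
    congr 1
    exact PrimeSpectrum.ext e

end GrothLib.MultOne4

namespace GrothLib.MultOne4

open GrothLib.CycDiv (primeOf)

variable {X : Scheme.{u}}

theorem ker_pullback_fst_comp {Y Z : Scheme.{u}} (ιY : Y ⟶ X) (ιZ : Z ⟶ X) [IsClosedImmersion ιY]
    [IsClosedImmersion ιZ] (w : (pullback ιY ιZ : Scheme.{u})) :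
    RingHom.ker ((pullback.fst ιY ιZ ≫ ιY).stalkMap w).hom =
      IntMult.stalkIdeal ιY.ker (ιY (pullback.fst ιY ιZ w)) ⊔
        IntMult.stalkIdeal ιZ.ker (ιY (pullback.fst ιY ιZ w)) := by
  set y := pullback.fst ιY ιZ w with hy
  set z := pullback.snd ιY ιZ w with hz
  have hx : ιY y = ιZ z := by
    show (pullback.fst ιY ιZ ≫ ιY) w = (pullback.snd ιY ιZ ≫ ιZ) w
    rw [pullback.condition]
  obtain ⟨_, ⟨U, hU, rfl⟩, hzU, -⟩ :=
    X.isBasis_affineOpens.exists_subset_of_mem_open (Set.mem_univ (ιZ z)) isOpen_univ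
  have hk := GrothLib.RelReg.ker_stalkMap_of_isPullback (IsPullback.of_hasPullback ιY ιZ).flip ⟨U, hU⟩
    (IsZariskiLocalAtTarget.restrict ‹_› _) z hzU w hx
  have hI : (RingHom.ker (ιZ.stalkMap z).hom).map
      ((X.presheaf.stalkCongr (.of_eq hx.symm)).hom).hom = IntMult.stalkIdeal ιZ.ker (ιY y) := by
    rw [ker_eq, GrothLib.IntMult3.stalkIdeal_eq, GrothLib.IntMult3.stalkIdeal_eq,
      TopCat.Presheaf.stalkCongr_hom]
    exact GrothLib.CartierDescent.stalkIdeal_map_specializes _ _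
  rw [CommRingCat.hom_comp, ← Ideal.map_map, hI] at hk
  rw [GrothLib.CInt17.ker_stalkMap_comp, ← RingHom.comap_ker, hk,
    Ideal.comap_map_of_surjective _ (ιY.stalkMap_surjective y), ← RingHom.ker_eq_comap_bot, ker_eq, sup_comm]

theorem isRegularLocalRing_of_ker {Y : Scheme.{u}} (ιY : Y ⟶ X) [IsClosedImmersion ιY] (y : Y) (τ : X)
    (h : ιY y = τ) (hreg : IsRegularLocalRing (↑(X.presheaf.stalk τ) ⧸ IntMult.stalkIdeal ιY.ker τ)) :
    IsRegularLocalRing (Y.presheaf.stalk y) := by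
  subst h
  exact IsRegularLocalRing.of_ringEquiv ((Ideal.quotEquivOfEq (ker_eq ιY y).symm).trans
    (RingHom.quotientKerEquivOfSurjective (ιY.stalkMap_surjective y)))

theorem interProd_eq_one {K : Type u} [Field K] (f : X ⟶ Spec (CommRingCat.of K)) [Smooth f] [IsIntegral X]
    {δ : X → ℤ} (hδ : Cyc.IsDimFun X δ) (n : ℤ) (hn : δ (genericPoint X) = n)
    {Y Z : Scheme.{u}} (ιY : Y ⟶ X) (ιZ : Z ⟶ X) [IsClosedImmersion ιY] [IsClosedImmersion ιZ] (r s : ℤ)
    (hY : ∀ y : Y, δ (ιY y) ≤ r) (hZ : ∀ z : Z, δ (ιZ z) ≤ s) (τ : X) (hτ : δ τ = r + s - n)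
    {ξ η : X} (hξ : Cyc.subschemeFun δ r ιY ξ ≠ 0) (hη : Cyc.subschemeFun δ s ιZ η ≠ 0)
    (hξτ : ξ ⤳ τ) (hητ : η ⤳ τ)
    (hmult : Cyc.subschemeFun δ (r + s - n) (pullback.fst ιY ιZ ≫ ιY) τ = 1) :
    IntMult.interProd δ n (Cyc.subschemeFun δ r ιY) (Cyc.subschemeFun δ s ιZ) τ = 1 ∧
      (∀ y : Y, ιY y = τ → IsRegularLocalRing (Y.presheaf.stalk y)) ∧
      (∀ z : Z, ιZ z = τ → IsRegularLocalRing (Z.presheaf.stalk z)) := by
  classical
  haveI : IsLocallyNoetherian X := LocallyOfFiniteType.isLocallyNoetherian f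
  haveI := GrothLib.WeilExt.isRegularLocalRing_stalk_of_smooth f
    (GrothLib.WeilExt.isRegularLocalRing_stalk_spec K) τ
  obtain ⟨-, w, hw⟩ := mem_range_of_subschemeFun (pullback.fst ιY ιZ ≫ ιY) (x := τ) (δ := δ) (k := r + s - n)
    (by rw [hmult]; exact one_ne_zero)
  subst hw
  rw [subschemeFun_apply _ w hτ, ker_pullback_fst_comp ιY ιZ w] at hmult
  set τ := (pullback.fst ιY ιZ ≫ ιY) w with hτdef
  set J := IntMult.stalkIdeal ιY.ker τ
  set I := IntMult.stalkIdeal ιZ.ker τ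
  have hlen : Module.length (X.presheaf.stalk τ) (↑(X.presheaf.stalk τ) ⧸ (J ⊔ I)) = 1 := by
    have h1 : (Module.length (X.presheaf.stalk τ) (↑(X.presheaf.stalk τ) ⧸ (J ⊔ I))).toNat = 1 := by
      exact_mod_cast hmult
    exact (ENat.toNat_eq_iff one_ne_zero).1 h1
  have hm : J ⊔ I = maximalIdeal (X.presheaf.stalk τ) := GrothLib.IntMult4.sup_eq_maximalIdeal hlen
  obtain ⟨hξr, hξY⟩ := mem_range_of_subschemeFun ιY hξ
  obtain ⟨hηs, hηZ⟩ := mem_range_of_subschemeFun ιZ hη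
  have hJle : J ≤ primeOf hξτ := stalkIdeal_le_primeOf _ hξτ (by
    show ξ ∈ (ιY.ker.support : Set X)
    rw [coe_support_ker]; exact hξY)
  have hIle : I ≤ primeOf hητ := stalkIdeal_le_primeOf _ hητ (by
    show η ∈ (ιZ.ker.support : Set X)
    rw [coe_support_ker]; exact hηZ)
  have hb : ringKrullDim (↑(X.presheaf.stalk τ) ⧸ J) = ((r - δ τ).toNat : WithBot ℕ∞) := by
    refine le_antisymm (dim_quotient_le ιY hδ hY τ) ?_
    rw [← hξr, ← dim_quotient_primeOf hδ hξτ]
    exact ringKrullDim_le_of_surjective _ (Ideal.Quotient.factor_surjective hJle)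
  have hc : ringKrullDim (↑(X.presheaf.stalk τ) ⧸ I) = ((s - δ τ).toNat : WithBot ℕ∞) := by
    refine le_antisymm (dim_quotient_le ιZ hδ hZ τ) ?_
    rw [← hηs, ← dim_quotient_primeOf hδ hητ]
    exact ringKrullDim_le_of_surjective _ (Ideal.Quotient.factor_surjective hIle)
  have hbot : primeOf (genericPoint_specializes τ) = ⊥ := by
    refine (eq_bot_iff).2 fun a ha => ?_
    rw [GrothLib.CycDiv.mem_primeOf_iff] at ha
    have h0 : maximalIdeal (X.presheaf.stalk (genericPoint X)) = ⊥ :=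
      isField_iff_maximalIdeal_eq.1 (Field.toIsField X.functionField)
    rw [h0, Ideal.mem_bot] at ha
    exact Ideal.mem_bot.2 (GrothLib.MorQ9.injective_stalkSpecializes_generic τ (ha.trans (map_zero _).symm))
  have ha : ringKrullDim (X.presheaf.stalk τ) = ((n - δ τ).toNat : WithBot ℕ∞) := by
    rw [← hn, ← dim_quotient_primeOf hδ (genericPoint_specializes τ),
      ringKrullDim_eq_of_ringEquiv ((Ideal.quotEquivOfEq hbot).trans (RingEquiv.quotientBot _))]
  have h1 := GrothLib.CycBasic.delta_le hδ hξτ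
  have h2 := GrothLib.CycBasic.delta_le hδ hητ
  have hle : (n - δ τ).toNat ≤ (r - δ τ).toNat + (s - δ τ).toNat := by omega
  have hregY := GrothLib.IntMult4.isRegular_quot hm ha hb hc hle
  have hregZ := GrothLib.IntMult4.isRegular_quot ((sup_comm _ _).trans hm) ha hc hb (by omega)
  obtain ⟨hJ, hαξ, huY⟩ := component ιY hδ hY hξ hξτ hregY
  obtain ⟨hI, hβη, huZ⟩ := component ιZ hδ hZ hη hητ hregZ
  refine ⟨?_, fun y hy => isRegularLocalRing_of_ker ιY y τ hy hregY,
    fun z hz => isRegularLocalRing_of_ker ιZ z τ hz hregZ⟩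
  show (∑ᶠ p : {p : X × X // p.1 ⤳ τ ∧ p.2 ⤳ τ ∧ δ p.1 + δ p.2 - n = δ τ},
    Cyc.subschemeFun δ r ιY p.1.1 * Cyc.subschemeFun δ s ιZ p.1.2 *
      IntMult.mult (IntMult.ptIdeal p.1.1) (IntMult.ptIdeal p.1.2) τ) = 1
  rw [finsum_eq_single _ ⟨(ξ, η), hξτ, hητ, by rw [hξr, hηs, hτ]⟩ fun p hp => ?_]
  · show Cyc.subschemeFun δ r ιY ξ * Cyc.subschemeFun δ s ιZ η *
      IntMult.mult (IntMult.ptIdeal ξ) (IntMult.ptIdeal η) τ = 1
    rw [hαξ, hβη, one_mul, one_mul, IntMult.mult, stalkIdeal_ptIdeal hξτ, stalkIdeal_ptIdeal hητ, ← hJ, ← hI]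
    haveI := @GrothLib.IntMult4.isCohenMacaulayLocalRing _ _ hregY
    haveI := @GrothLib.IntMult4.isCohenMacaulayLocalRing _ _ hregZ
    rw [GrothLib.IntMult4.chi_eq_length
      (GrothLib.IntMult4.subsingleton_tor (by rw [hlen]; exact ENat.one_ne_top) ha hb hc hle), hlen]
    rfl
  · by_cases hp1 : Cyc.subschemeFun δ r ιY p.1.1 = 0
    · rw [hp1, zero_mul, zero_mul]
    by_cases hp2 : Cyc.subschemeFun δ s ιZ p.1.2 = 0
    · rw [hp2, mul_zero, zero_mul]
    exact absurd (Subtype.ext (Prod.ext (huY _ p.2.1 hp1) (huZ _ p.2.2.1 hp2))) hp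

end GrothLib.MultOne4
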